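import Mathlib
import Groth.Statements.S9764

set_option autoImplicit false
universe u
open FlatMor

/-! Helper lemmas originally in helper29's S9764 (overwritten on origin/main by another seat's proof);
restored here by lead so that S9735 keeps building. -/
namespace Groth.Agent.Lib.helper29

section Helpers

open AlgebraicGeometry CategoryTheory Limits TensorProduct

/-- Two field extensions of a field admit a common field extension (in the same universe). -/
theorem exists_common_field_ext {k K k' : Type u} [Field k] [Field K] [Field k']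
    (ψ : k →+* K) (φ : k →+* k') :
    ∃ (L : Type u) (_ : Field L) (a : K →+* L) (b : k' →+* L), a.comp ψ = b.comp φ := by
  algebraize [ψ, φ]
  have : Nontrivial (K ⊗[k] k') :=
    Algebra.TensorProduct.nontrivial_of_algebraMap_injective_of_flat_left (R := k) K k'
      (algebraMap k k').injective
  obtain ⟨m, hm⟩ := Ideal.exists_maximal (K ⊗[k] k')
  let _ := Ideal.Quotient.field m
  refine ⟨(K ⊗[k] k') ⧸ m, inferInstance,
    (Ideal.Quotient.mk m).comp (Algebra.TensorProduct.includeLeft : K →ₐ[k] K ⊗[k] k').toRingHom,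
    (Ideal.Quotient.mk m).comp (Algebra.TensorProduct.includeRight : k' →ₐ[k] K ⊗[k] k').toRingHom,
    ?_⟩
  ext x
  have h1 : (Algebra.TensorProduct.includeLeft : K →ₐ[k] K ⊗[k] k') (algebraMap k K x) =
      algebraMap k _ x := AlgHom.commutes _ x
  have h2 : (Algebra.TensorProduct.includeRight : k' →ₐ[k] K ⊗[k] k') (algebraMap k k' x) =
      algebraMap k _ x := AlgHom.commutes _ x
  simp only [RingHom.comp_apply, AlgHom.toRingHom_eq_coe, RingHom.coe_coe]
  change Ideal.Quotient.mk m ((Algebra.TensorProduct.includeLeft : K →ₐ[k] K ⊗[k] k')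
    (algebraMap k K x)) = Ideal.Quotient.mk m
      ((Algebra.TensorProduct.includeRight : k' →ₐ[k] K ⊗[k] k') (algebraMap k k' x))
  rw [h1, h2]

/-- Descent of `geometrically P` along a field extension, for properties `P` that descend along
surjective morphisms. -/
theorem geometrically_descent (P : ObjectProperty Scheme.{u})
    (hP : ∀ {Z₁ Z₂ : Scheme.{u}} (π : Z₁ ⟶ Z₂) [Surjective π], P Z₁ → P Z₂)
    {k k' : Type u} [Field k] [Field k'] (φ : CommRingCat.of k ⟶ CommRingCat.of k')
    {Z Z' : Scheme.{u}} (h : Z ⟶ Spec (.of k)) (h' : Z' ⟶ Spec (.of k')) (b' : Z' ⟶ Z)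
    (sq : IsPullback b' h' h (Spec.map φ)) (H : geometrically P h') : geometrically P h := by
  intro K _ x W fst snd hW
  obtain ⟨ψ, rfl⟩ := Spec.map_surjective x
  obtain ⟨L, _, a, b, hab⟩ := exists_common_field_ext ψ.hom φ.hom
  have hab' : Spec.map (CommRingCat.ofHom a) ≫ Spec.map ψ =
      Spec.map (CommRingCat.ofHom b) ≫ Spec.map φ := by
    rw [← Spec.map_comp, ← Spec.map_comp]
    congr 1
    ext x
    exact RingHom.congr_fun hab x
  have : Surjective (pullback.fst snd (Spec.map (CommRingCat.ofHom a))) := inferInstance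
  apply hP (pullback.fst snd (Spec.map (CommRingCat.ofHom a)))
  have h1 : IsPullback (pullback.fst snd (Spec.map (CommRingCat.ofHom a)) ≫ fst)
      (pullback.snd snd (Spec.map (CommRingCat.ofHom a))) h
      (Spec.map (CommRingCat.ofHom a) ≫ Spec.map ψ) :=
    (IsPullback.of_hasPullback snd (Spec.map (CommRingCat.ofHom a))).paste_horiz hW
  have comm : (pullback.fst snd (Spec.map (CommRingCat.ofHom a)) ≫ fst) ≫ h =
      (pullback.snd snd (Spec.map (CommRingCat.ofHom a)) ≫ Spec.map (CommRingCat.ofHom b)) ≫
        Spec.map φ := by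
    rw [h1.w, Category.assoc, hab']
  have h2 : IsPullback (sq.lift _ _ comm ≫ b')
      (pullback.snd snd (Spec.map (CommRingCat.ofHom a))) h
      (Spec.map (CommRingCat.ofHom b) ≫ Spec.map φ) := by
    rw [sq.lift_fst, ← hab']
    exact h1
  have h3 := IsPullback.of_right h2 (sq.lift_snd _ _ comm) sq
  exact H (Spec.map (CommRingCat.ofHom b)) (sq.lift _ _ comm)
    (pullback.snd snd (Spec.map (CommRingCat.ofHom a))) h3

/-- The fibre of a base change is the base change of the fibre. -/
theorem exists_fibre_isPullback {X Y X' Y' : Scheme.{u}} (f : X ⟶ Y) (g : Y' ⟶ Y) (f' : X' ⟶ Y')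
    (g' : X' ⟶ X) (hc : IsPullback g' f' f g) (y' : Y') :
    ∃ ℓ : f'.fiber y' ⟶ f.fiber (g y'),
      IsPullback ℓ (f'.fiberToSpecResidueField y') (f.fiberToSpecResidueField (g y'))
        (Spec.map (g.residueFieldMap y')) := by
  have h0 : IsPullback (f'.fiberι y') (f'.fiberToSpecResidueField y') f'
      (Y'.fromSpecResidueField y') := IsPullback.of_hasPullback _ _
  have h1 : IsPullback (f'.fiberι y' ≫ g') (f'.fiberToSpecResidueField y') f
      (Y'.fromSpecResidueField y' ≫ g) := h0.paste_horiz hc
  have hR : IsPullback (f.fiberι (g y')) (f.fiberToSpecResidueField (g y')) f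
      (Y.fromSpecResidueField (g y')) := IsPullback.of_hasPullback _ _
  have e : Spec.map (g.residueFieldMap y') ≫ Y.fromSpecResidueField (g y') =
      Y'.fromSpecResidueField y' ≫ g :=
    Scheme.Hom.SpecMap_residueFieldMap_fromSpecResidueField g y'
  have comm : (f'.fiberι y' ≫ g') ≫ f =
      (f'.fiberToSpecResidueField y' ≫ Spec.map (g.residueFieldMap y')) ≫
        Y.fromSpecResidueField (g y') := by
    rw [h1.w, Category.assoc, e]
  refine ⟨hR.lift _ _ comm, ?_⟩
  have h2 : IsPullback (hR.lift _ _ comm ≫ f.fiberι (g y')) (f'.fiberToSpecResidueField y') f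
      (Spec.map (g.residueFieldMap y') ≫ Y.fromSpecResidueField (g y')) := by
    rw [hR.lift_fst, e]; exact h1
  exact IsPullback.of_right h2 (hR.lift_snd _ _ comm) hR

/-- For a property `P` of schemes descending along surjective morphisms, the fibre of a base change
`f'` of `f` along `g` at `y'` is geometrically `P` iff the fibre of `f` at `g y'` is. -/
theorem geometrically_fibre_iff (P : ObjectProperty Scheme.{u})
    (hP : ∀ {Z₁ Z₂ : Scheme.{u}} (π : Z₁ ⟶ Z₂) [Surjective π], P Z₁ → P Z₂)
    {X Y X' Y' : Scheme.{u}} (f : X ⟶ Y) (g : Y' ⟶ Y) (f' : X' ⟶ Y')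
    (g' : X' ⟶ X) (hc : IsPullback g' f' f g) (y' : Y') :
    geometrically P (f'.fiberToSpecResidueField y') ↔
      geometrically P (f.fiberToSpecResidueField (g y')) := by
  obtain ⟨ℓ, hℓ⟩ := exists_fibre_isPullback f g f' g' hc y'
  constructor
  · intro H
    exact geometrically_descent P hP (g.residueFieldMap y') _ _ ℓ hℓ H
  · intro H
    exact MorphismProperty.of_isPullback hℓ H

end Helpers

end Groth.Agent.Lib.helper29
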